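import Cfsg.Agent.Spor.Chk

set_option autoImplicit false
set_option maxRecDepth 100000000
set_option Elab.async false
noncomputable section

namespace Cfsg.Agent.Spor.C3Sb

def m0_0 : Nat := nat_lit 0x2001
def m0_1 : Nat := nat_lit 0x900b1
def m0_2 : Nat := nat_lit 0x2000204
def m0_3 : Nat := nat_lit 0x2000102
def m0_4 : Nat := nat_lit 0x11100
def m0_5 : Nat := nat_lit 0x100
def m0_6 : Nat := nat_lit 0x2000200
def m0_7 : Nat := nat_lit 0x90030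
def m0_8 : Nat := nat_lit 0x2001
def n0 : Net := Net.cons 16 m0_0 (Net.cons 8 m0_1 (Net.cons 4 m0_2 (Net.cons 2 m0_3 (Net.cons 1 m0_4 (Net.cons 2 m0_5 (Net.cons 4 m0_6 (Net.cons 8 m0_7 (Net.cons 16 m0_8 (Net.nil)))))))))

def m1_0 : Nat := nat_lit 0x4509
def m1_1 : Nat := nat_lit 0x890069
def m1_2 : Nat := nat_lit 0x80005
def m1_3 : Nat := nat_lit 0x2300000
def m1_4 : Nat := nat_lit 0x44514441
def m1_5 : Nat := nat_lit 0x200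
def m1_6 : Nat := nat_lit 0x80005
def m1_7 : Nat := nat_lit 0x890048
def m1_8 : Nat := nat_lit 0x4301
def n1 : Net := Net.cons 16 m1_0 (Net.cons 8 m1_1 (Net.cons 4 m1_2 (Net.cons 2 m1_3 (Net.cons 1 m1_4 (Net.cons 2 m1_5 (Net.cons 4 m1_6 (Net.cons 8 m1_7 (Net.cons 16 m1_8 (Net.nil)))))))))

def m2_0 : Nat := nat_lit 0x4191
def m2_1 : Nat := nat_lit 0x300a4
def m2_2 : Nat := nat_lit 0x2000601
def m2_3 : Nat := nat_lit 0x12212002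
def m2_4 : Nat := nat_lit 0x4515044
def m2_5 : Nat := nat_lit 0x11
def m2_6 : Nat := nat_lit 0x2010401
def m2_7 : Nat := nat_lit 0x4300a2
def m2_8 : Nat := nat_lit 0x5125
def n2 : Net := Net.cons 16 m2_0 (Net.cons 8 m2_1 (Net.cons 4 m2_2 (Net.cons 2 m2_3 (Net.cons 1 m2_4 (Net.cons 2 m2_5 (Net.cons 4 m2_6 (Net.cons 8 m2_7 (Net.cons 16 m2_8 (Net.nil)))))))))

def m3_0 : Nat := nat_lit 0x4d65
def m3_1 : Nat := nat_lit 0x580027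
def m3_2 : Nat := nat_lit 0x5020802
def m3_3 : Nat := nat_lit 0x10110231
def m3_4 : Nat := nat_lit 0x4110454
def m3_5 : Nat := nat_lit 0x100100
def m3_6 : Nat := nat_lit 0x804
def m3_7 : Nat := nat_lit 0x110031
def m3_8 : Nat := nat_lit 0x492e
def n3 : Net := Net.cons 16 m3_0 (Net.cons 8 m3_1 (Net.cons 4 m3_2 (Net.cons 2 m3_3 (Net.cons 1 m3_4 (Net.cons 2 m3_5 (Net.cons 4 m3_6 (Net.cons 8 m3_7 (Net.cons 16 m3_8 (Net.nil)))))))))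

def m4_0 : Nat := nat_lit 0x2001
def m4_1 : Nat := nat_lit 0x80
def m4_2 : Nat := nat_lit 0x1000202
def m4_3 : Nat := nat_lit 0x22130
def m4_4 : Nat := nat_lit 0x10000055
def m4_5 : Nat := nat_lit 0x1000202
def m4_6 : Nat := nat_lit 0x80
def m4_7 : Nat := nat_lit 0x2001
def n4 : Net := Net.cons 16 m4_0 (Net.cons 8 m4_1 (Net.cons 4 m4_2 (Net.cons 2 m4_3 (Net.cons 1 m4_4 (Net.cons 4 m4_5 (Net.cons 8 m4_6 (Net.cons 16 m4_7 (Net.nil))))))))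

def m5_0 : Nat := nat_lit 0x203
def m5_1 : Nat := nat_lit 0xe0024
def m5_2 : Nat := nat_lit 0xc050b
def m5_3 : Nat := nat_lit 0x1000101
def m5_4 : Nat := nat_lit 0x4545144
def m5_5 : Nat := nat_lit 0x1000110
def m5_6 : Nat := nat_lit 0x504
def m5_7 : Nat := nat_lit 0xc0024
def m5_8 : Nat := nat_lit 0x203
def n5 : Net := Net.cons 16 m5_0 (Net.cons 8 m5_1 (Net.cons 4 m5_2 (Net.cons 2 m5_3 (Net.cons 1 m5_4 (Net.cons 2 m5_5 (Net.cons 4 m5_6 (Net.cons 8 m5_7 (Net.cons 16 m5_8 (Net.nil)))))))))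

def ip1 : List Nat := [0x21aff7f8, 0x1faaf290, 0x38155520, 0x400800]
def l1 : Let := ⟨0, false, 0x3fffffff, 0x48, [0x22b11568, 0x378aea90, 0x99f7d20, 0x3e740800]⟩

def ip2 : List Nat := [0x2baaaa90, 0x34240000, 0x6600000, 0x41800]
def l2 : Let := ⟨1, false, 0x3fffffff, 0x98aa290, [0x3f8ea290, 0x16000000, 0x36641800, 0x30041800]⟩

def ip3 : List Nat := [0x3b18a10, 0x31854d30, 0x8abe10, 0x8140080]
def l3 : Let := ⟨2, false, 0x3fffffff, 0x30010520, [0x23ac9b20, 0x110945b0, 0x119ffe00, 0x28145800]⟩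

def ip4 : List Nat := [0x5959cc4, 0x3089782, 0x1424240, 0x38a10802]
def l4 : Let := ⟨3, false, 0x3fffffff, 0x405802, [0x1f1f1406, 0x33cb5e40, 0x288982, 0x3b63d982]⟩

def ip5 : List Nat := [0x30698d6a, 0xab882d1, 0x10a6209, 0x6600806]
def l5 : Let := ⟨2, true, 0x3fffffff, 0x2200000, [0x39594df9, 0x1a88296, 0x3faea48, 0xe304800]⟩

def ip6 : List Nat := [0x3f2f962, 0x3f2580b0, 0x402a108, 0x38900044]
def l6 : Let := ⟨3, true, 0x3fffffff, 0x4140004, [0x1f517886, 0x3793a1c8, 0x1240074, 0x3e3621f4]⟩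

def ip7 : List Nat := [0xc80000c, 0x8936204, 0x4c10404]
def l7 : Let := ⟨4, false, 0xcd3660d, 0x0, [0x8434004, 0xc002004, 0x132608, 0xcd04000]⟩

def ip8 : List Nat := [0x1b88e01b, 0x788e05e, 0x1cc1012a]
def l8 : Let := ⟨4, true, 0x1fc9e17f, 0x0, [0x1a48603b, 0xf00000a, 0x109a174, 0x1ec04000]⟩

def ip9 : List Nat := [0x800082, 0xc0, 0x4000204]
def l9 : Let := ⟨5, false, 0x48002c7, 0x0, [0x800204, 0x204, 0xc2, 0x4800000]⟩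

def ip10 : List Nat := [0x280c083, 0x6004284, 0x808052]
def l10 : Let := ⟨5, true, 0x680c2d7, 0x0, [0x6008003, 0xc002, 0x2d4, 0x6804000]⟩

def NT : List Net := [n0, n1, n2, n3, n4, n5]
def LT : List Let := [⟨0, false, 0, 0, []⟩, l1, l2, l3, l4, l5, l6, l7, l8, l9, l10]
def T : Tab := ⟨NT, LT⟩
def EX : List (List Nat) := [[], [0], [2], [4], [6], [5], [7], [6, 0, 7, 0, 6], [7, 0, 6, 0, 7], [6, 0, 2, 6, 2, 0, 6], [7, 0, 2, 7, 2, 0, 7]]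
def RL : List (List Nat) := [[4, 4, 4], [6, 0, 2, 6, 2, 0, 6, 2, 6, 0, 2, 6, 2, 0, 6, 2], [4, 2, 4, 2, 4, 2], [6, 0, 7, 0, 6, 2, 6, 0, 7, 0, 6, 2], [6, 0, 2, 6, 2, 0, 6, 5, 6, 0, 7, 0, 6, 4, 6, 0, 2, 6, 2, 0, 6, 6, 0, 7, 0, 6], [5, 6, 0, 7, 0, 6, 4, 6, 0, 7, 0, 6], [6, 0, 7, 0, 6, 5, 0, 4, 6, 0, 7, 0, 6, 0], [6, 0, 2, 6, 2, 0, 6, 0, 6, 0, 2, 6, 2, 0, 6, 0], [2, 0, 2, 0], [4, 6, 0, 2, 6, 2, 0, 6, 4, 6, 0, 2, 6, 2, 0, 6, 4, 6, 0, 2, 6, 2, 0, 6, 4, 6, 0, 2, 6, 2, 0, 6], [4, 2, 6, 0, 2, 6, 2, 0, 6, 4, 6, 0, 2, 6, 2, 0, 6, 2, 4, 6, 0, 2, 6, 2, 0, 6, 2, 4, 6, 0, 2, 6, 2, 0, 6, 2], [6, 0, 7, 0, 6, 6, 0, 7, 0, 6], [6, 0, 2, 6, 2, 0, 6, 6, 0, 2, 6, 2, 0, 6], [2, 5, 7, 4, 2, 6], [5, 7, 5, 7, 2, 6, 2, 6, 4, 6]]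
def XL : List (List Nat) := []
def BW : List (List Nat) := [[0], [2], [6, 0, 7, 0, 6], [6, 0, 2, 6, 2, 0, 6], [4]]
def IV : Nat := 0x90a070804030605020100
def L : List Nat := [1, 2, 3, 4, 5, 6, 7, 8, 9, 10]
def gs : List Nat := [1, 2, 3, 4]
def base : List Nat := [1, 2, 7, 9, 3]

end Cfsg.Agent.Spor.C3Sb
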